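import Cfsg.Agent.Lib.LieTwisted.Twist.TorusNorm
import Mathlib.GroupTheory.Perm.ViaEmbedding
import Mathlib.GroupTheory.SpecificGroups.Alternating

/-!
Lifting cyclic sections of prime order together with the elements normalising them, and the position
of the lifts relative to the torus.
-/

set_option autoImplicit false
set_option linter.unusedSectionVars false

namespace Cfsg.Agent.Lib.AltSectExc

open Cfsg.Agent.Lib.LieTwisted.Twist

variable {G : Type*} [Group G] [Finite G] {A : Type*} [Group A]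

/-- A cyclic section of prime order is covered by a subgroup of prime power order, normalised by lifts of
the elements normalising the section. -/
theorem exists_lift (H : Subgroup G) (π : ↥H →* A) {ℓ : ℕ} [Fact ℓ.Prime] {a : A} (ha : orderOf a = ℓ)
    (hr : a ∈ π.range) :
    ∃ (P : Subgroup G) (hP : P ≤ H), IsPGroup ℓ ↥P ∧ (∃ (x : G) (hx : x ∈ P), π ⟨x, hP hx⟩ = a) ∧
      ∀ c ∈ π.range, c * a * c⁻¹ ∈ Subgroup.zpowers a →
        ∃ (y : G) (hy : y ∈ H), (∀ z ∈ P, y * z * y⁻¹ ∈ P) ∧ ∃ j : ℤ, π ⟨y, hy⟩ = a ^ j * c := by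
  classical
  have hℓ : ℓ.Prime := Fact.out
  set L := (Subgroup.zpowers a).comap π
  let P0 : Sylow ℓ ↥L := Classical.choice inferInstance
  obtain ⟨x, hx, hxa⟩ : ∃ x ∈ (P0 : Subgroup ↥L), π (x : ↥H) = a := by
    let π' : ↥L →* ↥(Subgroup.zpowers a) := π.subgroupComap (Subgroup.zpowers a)
    have hsur : Function.Surjective π' := fun ⟨b, hb⟩ => by
      obtain ⟨i, rfl⟩ := hb
      obtain ⟨h, hh⟩ := hr
      exact ⟨⟨h ^ i, ⟨i, by simp [hh]⟩⟩, Subtype.ext (show π (h ^ i) = a ^ i by rw [map_zpow, hh])⟩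
    have hne : ¬ (P0 : Subgroup ↥L) ≤ π'.ker := fun hle => by
      have hidx : π'.ker.index = ℓ := by
        rw [Subgroup.index_ker, MonoidHom.range_eq_top.2 hsur, Subgroup.card_top, Nat.card_zpowers, ha]
      exact P0.not_dvd_index (by
        have := Subgroup.index_dvd_of_le hle
        rwa [hidx] at this)
    have : Finite ↥(Subgroup.zpowers a) :=
      Nat.finite_of_card_ne_zero (by rw [Nat.card_zpowers, ha]; exact hℓ.ne_zero)
    obtain ⟨x0, hx0, hne⟩ := SetLike.not_le_iff_exists.1 hne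
    have : Subgroup.zpowers (π' x0) = ⊤ := by
      refine Subgroup.eq_top_of_card_eq _ ?_
      rw [Nat.card_zpowers, Nat.card_zpowers, ha]
      refine ((Nat.dvd_prime hℓ).1 ?_).resolve_left fun h => hne (MonoidHom.mem_ker.2 (orderOf_eq_one_iff.1 h))
      exact (orderOf_dvd_natCard (π' x0)).trans (by rw [Nat.card_zpowers, ha])
    obtain ⟨k, hk⟩ := Subgroup.mem_zpowers_iff.1 (this ▸ Subgroup.mem_top (⟨a, Subgroup.mem_zpowers a⟩ : ↥(Subgroup.zpowers a)))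
    refine ⟨x0 ^ k, zpow_mem hx0 k, ?_⟩
    rw [SubgroupClass.coe_zpow, map_zpow]
    exact congrArg Subtype.val hk
  refine ⟨((P0 : Subgroup ↥L).map L.subtype).map H.subtype, fun _ ⟨z, _, e⟩ => e ▸ z.2,
    (P0.isPGroup'.map _).map _, ⟨_, ⟨x, ⟨x, hx, rfl⟩, rfl⟩, hxa⟩, fun c hc hca => ?_⟩
  obtain ⟨c', hc'⟩ := hc
  obtain ⟨e, he⟩ := hca
  have hnorm : ∀ l ∈ L, c' * l * c'⁻¹ ∈ L := fun l hl => by
    obtain ⟨i, hi⟩ := hl
    refine ⟨e * i, ?_⟩
    show a ^ (e * i) = π (c' * l * c'⁻¹)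
    rw [map_mul, map_mul, map_inv, hc', ← show a ^ i = π l from hi, zpow_mul, show a ^ e = c * a * c⁻¹ from he,
      conj_zpow]
  let γ : ↥L →* ↥L :=
    { toFun := fun l => ⟨c' * l.1 * c'⁻¹, hnorm l.1 l.2⟩
      map_one' := Subtype.ext (by simp)
      map_mul' := fun l m => Subtype.ext (by simp [mul_assoc]) }
  have hγ : Function.Injective γ := fun l m h => Subtype.ext (by
    simpa [γ] using congrArg Subtype.val h)
  let P1 : Sylow ℓ ↥L := Sylow.ofCard ((P0 : Subgroup ↥L).map γ)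
    (by rw [Subgroup.card_map_of_injective hγ]; exact P0.card_eq_multiplicity)
  obtain ⟨l, hl⟩ := MulAction.exists_smul_eq ↥L P1 P0
  set y := (l : ↥H) * c' with hydef
  obtain ⟨j, hj⟩ := (l.2 : π (l : ↥H) ∈ Subgroup.zpowers a)
  refine ⟨(y : G), y.2, ?_, j, ?_⟩
  · rintro _ ⟨_, ⟨z, hz, rfl⟩, rfl⟩
    have hw : l * γ z * l⁻¹ ∈ (P0 : Subgroup ↥L) := by
      rw [← hl]
      exact ⟨γ z, ⟨z, hz, rfl⟩, rfl⟩
    exact ⟨_, ⟨_, hw, rfl⟩, by simp [hydef, γ, mul_assoc]⟩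
  · show π y = _
    rw [hydef, map_mul, hc', ← show a ^ j = π (l : ↥H) from hj]

/-- An iterated conjugate. -/
theorem pow_conj {M : Type*} [Group M] {d a : M} {n : ℕ} (h : d * a * d⁻¹ = a ^ n) :
    ∀ k : ℕ, d ^ k * a * (d ^ k)⁻¹ = a ^ n ^ k
  | 0 => by simp
  | k + 1 => by
    rw [pow_succ', show d * d ^ k * a * (d * d ^ k)⁻¹ = d * (d ^ k * a * (d ^ k)⁻¹) * d⁻¹ by group,
      pow_conj h k, ← conj_pow, h, ← pow_mul, ← pow_succ']

theorem pow_conj_mem {P : Subgroup G} {y : G} (hy : ∀ z ∈ P, y * z * y⁻¹ ∈ P) {x : G} (hx : x ∈ P) :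
    ∀ k : ℕ, y ^ k * x * (y ^ k)⁻¹ ∈ P
  | 0 => by simpa using hx
  | k + 1 => by
    rw [pow_succ', show y * y ^ k * x * (y * y ^ k)⁻¹ = y * (y ^ k * x * (y ^ k)⁻¹) * y⁻¹ by group]
    exact hy _ (pow_conj_mem hy hx k)

variable {D : Cfsg.Lie.ChevalleyDatum} {C : ChevStructure.Core D} {K : Type*} [Field K] [Finite K]

/-- Subgroups of coprime prime power orders, one normalising the other, commute when their primes are prime
to the twisted Weyl group. -/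
theorem commute_of_normalizes (T : Tw C K) {p r : ℕ} [Fact p.Prime] [Fact r.Prime]
    (hp : (Nat.card ↥T.W).factorization p = (Nat.card ↥T.H1).factorization p)
    (hr : ¬ r ∣ Nat.card ↥T.WT) {P : Subgroup ↥T.W} (hP : IsPGroup p ↥P) {R : Subgroup ↥T.W} (hR : IsPGroup r ↥R)
    {z : ↥T.W} (hz : z ∈ R) (hzP : ∀ x ∈ P, z * x * z⁻¹ ∈ P) {x : ↥T.W} (hx : x ∈ P) : Commute z x := by
  have h : Commute (z ^ Nat.card ↥T.WT) x := mul_inv_eq_iff_eq_mul.1 (T.pow_card_WT_fix hp hP hzP hx)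
  obtain ⟨k, hk⟩ := hR ⟨z, hz⟩
  have hk' : z ^ r ^ k = 1 := by simpa using congrArg Subtype.val hk
  have hco : Nat.Coprime (orderOf z) (Nat.card ↥T.WT) :=
    Nat.Coprime.coprime_dvd_left (orderOf_dvd_of_pow_eq_one hk')
      (Nat.Coprime.pow_left _ (((Fact.out : r.Prime).coprime_iff_not_dvd).2 hr))
  obtain ⟨m, hm⟩ := exists_pow_eq_self_of_coprime hco.symm
  rw [← hm]
  exact h.pow_left m

/-- Two commuting subgroups of prime power orders can be moved into the torus together. -/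
theorem exists_conj_le_H1 (T : Tw C K) {p r : ℕ} [Fact p.Prime] [Fact r.Prime]
    (hp : (Nat.card ↥T.W).factorization p = (Nat.card ↥T.H1).factorization p)
    (hr : (Nat.card ↥T.W).factorization r = (Nat.card ↥T.H1).factorization r)
    {P R : Subgroup ↥T.W} (hP : IsPGroup p ↥P) (hR : IsPGroup r ↥R) (hc : ∀ z ∈ R, ∀ x ∈ P, Commute z x) :
    ∃ φ : ↥T.W ≃* ↥T.W, (P ⊔ R).map φ.toMonoidHom ≤ T.H1 := by
  obtain ⟨Q, hQ⟩ := hP.exists_le_sylow
  let S0 : Sylow p ↥T.H1 := Classical.choice inferInstance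
  let S : Sylow p ↥T.W := Sylow.ofCard ((S0 : Subgroup ↥T.H1).map T.H1.subtype) (by
    rw [Subgroup.card_map_of_injective (Subgroup.subtype_injective _), S0.card_eq_multiplicity, hp])
  let U0 : Sylow r ↥T.H1 := Classical.choice inferInstance
  let U : Sylow r ↥T.W := Sylow.ofCard ((U0 : Subgroup ↥T.H1).map T.H1.subtype) (by
    rw [Subgroup.card_map_of_injective (Subgroup.subtype_injective _), U0.card_eq_multiplicity, hr])
  obtain ⟨g, hg⟩ := MulAction.exists_smul_eq ↥T.W Q S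
  set P' := P.map (MulAut.conj g).toMonoidHom with hP'def
  have hP' : P' ≤ T.H1 := by
    rintro _ ⟨x, hx, rfl⟩
    have : MulAut.conj g x ∈ (S : Subgroup ↥T.W) := by rw [← hg]; exact ⟨x, hQ hx, rfl⟩
    obtain ⟨s, -, hs⟩ := this
    exact hs ▸ s.2
  set Z := Subgroup.centralizer (P' : Set ↥T.W)
  have hHZ : T.H1 ≤ Z := fun h hh => Subgroup.mem_centralizer_iff.2 fun x hx => T.H1_comm (hP' hx) hh
  have hRZ : R.map (MulAut.conj g).toMonoidHom ≤ Z := by
    rintro _ ⟨z, hz, rfl⟩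
    refine Subgroup.mem_centralizer_iff.2 ?_
    rintro _ ⟨x, hx, rfl⟩
    rw [← map_mul, ← map_mul, (hc z hz x hx).eq]
  have hUH : (U : Subgroup ↥T.W) ≤ T.H1 := fun _ ⟨s, _, e⟩ => e ▸ s.2
  obtain ⟨Q', hQ'⟩ := ((hR.map (MulAut.conj g).toMonoidHom).comap_of_injective Z.subtype
    (Subgroup.subtype_injective _)).exists_le_sylow
  obtain ⟨h, hh⟩ := MulAction.exists_smul_eq ↥Z Q' (U.subtype (hUH.trans hHZ))
  refine ⟨(MulAut.conj g).trans (MulAut.conj (h : ↥T.W)), ?_⟩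
  rw [Subgroup.map_sup, sup_le_iff]
  constructor
  · rintro _ ⟨x, hx, rfl⟩
    have hxP : MulAut.conj g x ∈ P' := ⟨x, hx, rfl⟩
    show (h : ↥T.W) * MulAut.conj g x * (h : ↥T.W)⁻¹ ∈ T.H1
    rw [← Subgroup.mem_centralizer_iff.1 h.2 _ hxP, mul_inv_cancel_right]
    exact hP' hxP
  · rintro _ ⟨z, hz, rfl⟩
    have hzZ : MulAut.conj g z ∈ Z := hRZ ⟨z, hz, rfl⟩
    have h1 : (⟨_, hzZ⟩ : ↥Z) ∈ (Q' : Subgroup ↥Z) := hQ' ⟨z, hz, rfl⟩
    have h2 : h * ⟨_, hzZ⟩ * h⁻¹ ∈ ((U.subtype (hUH.trans hHZ) : Sylow r ↥Z) : Subgroup ↥Z) := by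
      rw [← hh]; exact ⟨_, h1, rfl⟩
    exact hUH h2

/-- An element normalising a subgroup of the torus acts on it by powers of a monomial element. -/
theorem exists_monomial_pow (T : Tw C K) {S : Subgroup ↥T.W} (hS : S ≤ T.H1) {y : ↥T.W}
    (hy : ∀ s ∈ S, y * s * y⁻¹ ∈ S) :
    ∃ n : ↥T.W, ∃ σ ∈ T.WT,
      (∀ k : ℕ, ∀ s ∈ S, y ^ k * s * (y ^ k)⁻¹ = n ^ k * s * (n ^ k)⁻¹) ∧
      (∀ k : ℕ, C.Acts ((n ^ k : ↥T.W) : GL D.Idx K) (σ ^ k)) ∧
      ∀ k : ℕ, σ ^ k = 1 → ∀ s ∈ S, Commute (n ^ k) s := by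
  obtain ⟨n, σ, hσ, hna, hnN, hns⟩ := T.exists_monomial_of_normalizes hS hy
  have hacts : ∀ k : ℕ, C.Acts ((n ^ k : ↥T.W) : GL D.Idx K) (σ ^ k) := by
    intro k
    induction k with
    | zero => rw [pow_zero, pow_zero]; exact fun r => ⟨1, fun t => by simp⟩
    | succ k ih => rw [pow_succ, pow_succ, Subgroup.coe_mul]; exact C.acts_mul K ih hna
  refine ⟨n, σ, hσ, fun k => ?_, hacts, fun k hk s hs => T.H1_comm ?_ (hS hs)⟩
  · induction k with
    | zero => intro s _; simp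
    | succ k ih =>
      intro s hs
      have h2 := pow_conj_mem hy hs k
      rw [pow_succ', pow_succ', show y * y ^ k * s * (y * y ^ k)⁻¹ = y * (y ^ k * s * (y ^ k)⁻¹) * y⁻¹ by group,
        hns _ h2, ih s hs]
      group
  · exact T.mem_H1.2 (C.mem_diagonal_of_acts_one (T.mem_N1.1 (pow_mem hnN _)) (hk ▸ hacts k))

end Cfsg.Agent.Lib.AltSectExc
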