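import Cfsg.Agent.Lib.ChevStructure.Order.CertF4

/-!
The orders of the elements of the Weyl group of type F₄.
-/

set_option autoImplicit false
set_option maxRecDepth 100000

namespace Cfsg.Agent.Lib.AltSectExc.WeylF4

open Cfsg.Lie Cfsg.Agent.Lib.ChevStructure

/-- The tables. -/
abbrev Fm := Data.F4.fast

/-- The words of the elements. -/
def words : ℕ → List (List ℕ)
  | 0 => [[]]
  | k + 1 => (Order.DataF4.reps.getD k []).flatMap fun L => (words k).map fun M => L ++ M

/-- Either the order divides eight or six, or the fourth power has orbit sums zero. -/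
def good (w : List ℕ) : Bool :=
  allLt Fm.l (fun i => Nat.beq ((Fm.actW w)^[8] (Fm.p i)) (Fm.p i)) ||
    allLt Fm.l (fun i => Nat.beq ((Fm.actW w)^[6] (Fm.p i)) (Fm.p i)) ||
      allLt Fm.l (fun i => allLt Fm.l fun m =>
        decide (Fm.v (Fm.p i) m + Fm.v ((Fm.actW w)^[4] (Fm.p i)) m + Fm.v ((Fm.actW w)^[8] (Fm.p i)) m = 0))

theorem words_good : ((words 4).all good) = true := by decide +kernel

/-- The tables as a core. -/
noncomputable abbrev C : Core chevF4 := Cert.F4.core

theorem level (k : ℕ) (hk : k < 4) :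
    C.LevelOK k ((Order.DataF4.reps.getD k []).map (toFinL chevF4.rank)) := by
  have h := (allLt_iff.1 Order.CertF4.levels) k hk
  exact Cert.F4.certified.level h

theorem card_WG : Nat.card C.WG = 1152 := by
  classical
  rw [← C.WJ_rank, Nat.card_eq_fintype_card]
  have h := C.sum_WJ (fun k => (Order.DataF4.reps.getD k []).map (toFinL chevF4.rank)) 4
    (fun k hk => level k hk) 1
  simp only [one_pow, Finset.sum_const, Finset.card_univ, smul_eq_mul, mul_one] at h
  refine (show Fintype.card ↥(C.WJ chevF4.rank) = Fintype.card ↥(C.WJ 4) from rfl).trans (h.trans ?_)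
  rfl

theorem exists_word : ∀ k, k ≤ 4 → ∀ σ ∈ C.WJ k, ∃ w ∈ words k, ∃ L : List (Fin chevF4.rank),
    L.map Fin.val = w ∧ C.pprod L = σ
  | 0, _, σ, hσ => by
    rw [C.WJ_zero, Subgroup.mem_bot] at hσ
    exact ⟨[], List.mem_singleton_self _, [], rfl, hσ.symm ▸ C.pprod_nil⟩
  | k + 1, hk, σ, hσ => by
    obtain ⟨⟨a, y⟩, e⟩ := (level k hk).bijective.2 ⟨σ, hσ⟩
    have e' := congrArg Subtype.val e
    obtain ⟨w, hw, M, hM, hMy⟩ := exists_word k (Nat.le_of_succ_le hk) y.1 y.2
    obtain ⟨N, hN, hNa⟩ := List.mem_map.1 (List.getElem_mem a.2)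
    have hle : ∀ i ∈ N, i < chevF4.rank := fun i hi => by
      have h := (allLt_iff.1 Order.CertF4.levels) k hk
      simp only [Fast.levelOK, Bool.and_eq_true, allLt_iff, List.all_eq_true] at h
      obtain ⟨b, hb, rfl⟩ := List.getElem_of_mem hN
      have := h.1.2 b hb
      rw [List.getD_eq_getElem _ _ hb] at this
      exact lt_of_le_of_lt (Nat.le_of_ble_eq_true (this.1.1.1 i hi)) hk
    refine ⟨N ++ w, List.mem_flatMap.2 ⟨N, hN, List.mem_map_of_mem hw⟩, toFinL chevF4.rank N ++ M, ?_, ?_⟩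
    · rw [List.map_append, hM, toFinL_val hle]
    · rw [C.pprod_append, hMy, hNa]
      exact e'

theorem pow_val (L : List (Fin chevF4.rank)) (k : ℕ) (r : Rt chevF4) :
    ((C.pprod L ^ k) r).val = (Fm.actW (L.map Fin.val))^[k] r.val := by
  induction k with
  | zero => rfl
  | succ k ih =>
    rw [pow_succ', Equiv.Perm.mul_apply, Function.iterate_succ_apply', ← ih]
    exact Cert.F4.certified.actW_eq L _

theorem v_pow (L : List (Fin chevF4.rank)) (k : ℕ) (r : Rt chevF4) (m : Fin chevF4.rank) :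
    C.v ((C.pprod L ^ k) r) m = ∑ j, C.v r j * C.v ((C.pprod L ^ k) (C.p j)) m := by
  obtain ⟨M, hM⟩ := C.mem_WG_iff.1 (pow_mem (C.pprod_mem_WG L) k)
  rw [← hM]
  exact C.pprod_v M r m

/-- Every element has order dividing eight or six, or its fourth power has no fixed vectors and order
three. -/
theorem weyl_cases {σ : Equiv.Perm (Rt chevF4)} (hσ : σ ∈ C.WG) :
    σ ^ 8 = 1 ∨ σ ^ 6 = 1 ∨ ∀ r m, C.v r m + C.v ((σ ^ 4) r) m + C.v ((σ ^ 4) ((σ ^ 4) r)) m = 0 := by
  rw [← C.WJ_rank] at hσ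
  obtain ⟨w, hw, L, hL, rfl⟩ := exists_word 4 le_rfl σ hσ
  have h := List.all_eq_true.1 words_good w hw
  simp only [good, Bool.or_eq_true, allLt_iff, decide_eq_true_eq] at h
  have fix : ∀ k, (∀ i, i < Fm.l → Nat.beq ((Fm.actW w)^[k] (Fm.p i)) (Fm.p i) = true) →
      C.pprod L ^ k = 1 := fun k hk => Equiv.ext fun r => C.v_inj (funext fun m => by
    rw [v_pow, Equiv.Perm.one_apply]
    conv_rhs => rw [show C.v r m = ∑ j, C.v r j * C.v (C.p j) m by simp [C.v_p, Pi.single_apply]]
    refine Finset.sum_congr rfl fun j _ => ?_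
    congr 2
    refine Fin.ext ?_
    rw [pow_val, hL]
    exact Nat.eq_of_beq_eq_true (hk j.val j.isLt))
  rcases h with (h | h) | h
  · exact Or.inl (fix 8 h)
  · exact Or.inr (Or.inl (fix 6 h))
  · refine Or.inr (Or.inr fun r m => ?_)
    rw [← Equiv.Perm.mul_apply, ← pow_add, v_pow L 4, v_pow L (4 + 4),
      show C.v r m = ∑ j, C.v r j * C.v (C.p j) m by simp [C.v_p, Pi.single_apply],
      ← Finset.sum_add_distrib, ← Finset.sum_add_distrib]
    refine Finset.sum_eq_zero fun j _ => ?_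
    rw [← mul_add, ← mul_add]
    have e : ∀ k : ℕ, C.v ((C.pprod L ^ k) (C.p j)) m = Fm.v ((Fm.actW w)^[k] (Fm.p j.val)) m.val := fun k => by
      show Fm.v ((C.pprod L ^ k) (C.p j)).val m.val = _
      rw [pow_val, hL]
      rfl
    rw [e 4, e (4 + 4)]
    show _ * (Fm.v (Fm.p j.val) m.val + _ + _) = 0
    rw [h j.val j.isLt m.val m.isLt, mul_zero]

end Cfsg.Agent.Lib.AltSectExc.WeylF4
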